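import Cfsg.Agent.H16.HN.Slp

/-!
Orbit chains: the product of the orbit lengths divides the order of the image of presented HN.
-/

set_option autoImplicit false
set_option maxRecDepth 100000

namespace Cfsg.Agent.H16.HN

open Cfsg.Agent.Compute

local instance : Fact (Nat.Prime 5) := ⟨by norm_num⟩

/-- one level: number of new words, orbit, table, parent pointers -/
abbrev Lvl : Type := ℕ × List ℕ × List (List ℕ) × List (ℕ × ℕ)

/-- all levels hold -/
noncomputable def chainB (T : List ℕ) (levels : List Lvl) (ws : List (List ℕ)) : Bool :=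
  List.rec (motive := fun _ => List (List ℕ) → Bool) (fun _ => true)
    (fun L _ ih w => levelB T w L.1 L.2.1 L.2.2.1 L.2.2.2 && ih (w.drop L.1)) levels ws

theorem chain_dvd (ts : List GL133) (T : List ℕ) (hf : List.Forall₂ Den ts T) :
    ∀ (levels : List Lvl) (ws : List (List ℕ)), chainB T levels ws = true →
      (levels.map fun L => L.2.1.length).prod ∣
        Nat.card (Subgroup.closure {g | g ∈ ws.map (elW ts)}) := by
  intro levels
  induction levels with
  | nil => intro ws _; exact one_dvd _
  | cons L levels ih =>
    intro ws h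
    have h' : levelB T ws L.1 L.2.1 L.2.2.1 L.2.2.2 = true ∧ chainB T levels (ws.drop L.1) = true :=
      (Bool.and_eq_true _ _).mp h
    rw [List.map_cons, List.prod_cons]
    exact (Nat.mul_dvd_mul_left _ (ih _ h'.2)).trans
      (level ts T hf ws L.1 L.2.1 L.2.2.1 L.2.2.2 h'.1)

/-- the consumer form -/
theorem dvd_range {prog : List (ℕ × ℕ)} {idx T : List ℕ} {levels : List Lvl} {ws : List (List ℕ)}
    (hs : slpB prog idx T = true) (h : chainB T levels ws = true) {d : ℕ}
    (hd : (levels.map fun L => L.2.1.length).prod = d) : d ∣ Nat.card rho.range := by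
  subst hd
  obtain ⟨ts, hf, hmem⟩ := forall₂_den T (slp_img hs)
  refine (chain_dvd ts T hf levels ws h).trans (Subgroup.card_dvd_of_le ?_)
  rw [Subgroup.closure_le]
  intro g hg
  obtain ⟨w, -, rfl⟩ := List.mem_map.mp hg
  exact elW_mem hmem w

end Cfsg.Agent.H16.HN
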