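import Cfsg.Agent.H16.HN.Engine
import Cfsg.Agent.H16.HN.Data

/-!
Kernel checks: the eight matrices are inverse in pairs and satisfy the relators of HN.
-/

set_option autoImplicit false
set_option maxRecDepth 100000
set_option Elab.async false

namespace Cfsg.Agent.H16.HN

open Cfsg.Agent.Compute

/-- packed identity -/
noncomputable def one133 : ℕ := oneMat 12 133

/-- packed matrix of a letter -/
noncomputable def mat (l : ℕ) : ℕ := List.getD mats l one133

/-- fast product -/
noncomputable def mulM (a b : ℕ) : ℕ := Cfsg.Agent.H27.LyRep.mulF 133 a b

/-- packed value of a word -/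
noncomputable def evM (w : List ℕ) : ℕ :=
  List.rec one133 (fun l _ ih => mulM (mat l) ih) w

/-- `a * b` is one, and both entries are canonical -/
noncomputable def okPair (a b : ℕ) : Bool :=
  validMat 12 133 5 a && validMat 12 133 5 b &&
    Nat.beq (mulM a b) one133 && Nat.beq (mulM b a) one133

theorem pair0 : okPair (mat 0) (mat 1) = true := by decide +kernel

theorem pair1 : okPair (mat 2) (mat 3) = true := by decide +kernel

theorem pair2 : okPair (mat 4) (mat 5) = true := by decide +kernel

theorem pair3 : okPair (mat 6) (mat 7) = true := by decide +kernel

/-- relators `k`, …, `k + m - 1` hold -/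
noncomputable def chkRels (k m : ℕ) : Bool :=
  allN m (fun i => Nat.beq (evM (relW.getD (Nat.add k i) [])) one133)

theorem rels0 : chkRels 0 5 = true := by decide +kernel

theorem rels1 : chkRels 5 4 = true := by decide +kernel

theorem rels2 : chkRels 9 1 = true := by decide +kernel

theorem rels3 : chkRels 10 4 = true := by decide +kernel

end Cfsg.Agent.H16.HN
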