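import Cfsg.Agent.H27.LyRep.Engine

/-!
The fast packed product over the field with five elements for matrices of size at most 133 (entries of
the unreduced product are at most 2128).
-/

set_option autoImplicit false

namespace Cfsg.Agent.H16.HN

open Cfsg.Agent.Compute Cfsg.Agent.H27.LyRep

theorem quo5_eq133 (m x : ℕ) (h : ∀ i < m, getP 24 x i % 2 ^ 12 ≤ 2128) :
    quo5 m x = packP 24 (fun i => getP 24 x i % 2 ^ 12 / 5) m := by
  show (((x &&& maskN 24 (2 ^ 12 - 1) m) * 3277) >>> 14) &&& maskN 24 (2 ^ 10 - 1) m = _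
  rw [land_mask (by norm_num) (by norm_num), land_mask (by norm_num) (by norm_num)]
  refine packP_congr 24 m fun i hi => ?_
  rw [Nat.shiftRight_eq_div_pow, getP_div_mod (by norm_num), packP_mul,
    getP_packP 24 _ m (fun j hj => by have := h j hj; norm_num at this ⊢; omega) i hi]
  have := h i hi
  generalize getP 24 x i % 2 ^ 12 = v at this
  obtain ⟨q, r, hr, rfl⟩ : ∃ q r, r < 5 ∧ v = 5 * q + r :=
    ⟨v / 5, v % 5, Nat.mod_lt _ (by norm_num), (Nat.div_add_mod v 5).symm⟩
  have e1 : (5 * q + r) / 5 = q := by omega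
  have e2 : (5 * q + r) * 3277 / 2 ^ 14 = q := by
    rw [show (5 * q + r) * 3277 = (q + 3277 * r) + 2 ^ 14 * q by ring,
      Nat.add_mul_div_left _ _ (by norm_num),
      Nat.div_eq_of_lt (by norm_num at this ⊢; omega), Nat.zero_add]
  rw [e1, e2, Nat.mod_eq_of_lt (by norm_num; omega)]

theorem red5_eq133 {N m : ℕ} (hm : N ≤ 2 * m) (hm' : 2 * m ≤ N + 1) (r : ℕ → ℕ)
    (hr : ∀ k < N, r k ≤ 2128) :
    red5 m (packP 12 r N) = packP 12 (fun k => r k % 5) N := by
  let r' : ℕ → ℕ := fun k => if k < N then r k else 0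
  have hr' : ∀ k, r' k ≤ 2128 := fun k => by
    by_cases hk : k < N <;> simp [r', hk]
    exact hr k hk
  have hext : ∀ g : ℕ → ℕ, g 0 = 0 →
      packP 12 (fun k => g (r k)) N = packP 24 (pair fun k => g (r' k)) m := by
    intro g hg
    rw [packP_pair]
    rcases (by omega : 2 * m = N ∨ 2 * m = N + 1) with e | e <;> rw [e]
    · exact packP_congr 12 N fun k hk => by simp [r', hk]
    · rw [packP_succ]
      simp only [r', lt_irrefl, if_false, hg, Nat.zero_mul, Nat.add_zero]
      exact packP_congr 12 N fun k hk => by simp [hk]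
  have hx : packP 12 r N = packP 24 (pair r') m := hext id rfl
  have hp : ∀ i < m, getP 24 (packP 12 r N) i = pair r' i := by
    rw [hx]
    exact getP_packP 24 _ m fun j _ => by
      have := hr' (2 * j)
      have := hr' (2 * j + 1)
      simp only [pair]; norm_num; omega
  have e0 : ∀ i < m, getP 24 (packP 12 r N) i % 2 ^ 12 = r' (2 * i) := fun i hi => by
    rw [hp i hi]
    have := hr' (2 * i)
    simp only [pair]; norm_num; omega
  have e1 : ∀ i < m, getP 24 (packP 12 r N >>> 12) i % 2 ^ 12 = r' (2 * i + 1) := fun i hi => by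
    rw [Nat.shiftRight_eq_div_pow, getP_div_mod (by norm_num), hp i hi]
    have := hr' (2 * i)
    have := hr' (2 * i + 1)
    simp only [pair]; norm_num; omega
  show packP 12 r N - 5 * (quo5 m (packP 12 r N) + quo5 m (packP 12 r N >>> 12) * 4096) = _
  rw [quo5_eq133 m _ fun i hi => by rw [e0 i hi]; exact hr' _,
    quo5_eq133 m _ fun i hi => by rw [e1 i hi]; exact hr' _,
    packP_congr 24 m (f := fun i => getP 24 (packP 12 r N) i % 2 ^ 12 / 5)
      (g := fun i => r' (2 * i) / 5) fun i hi => by rw [e0 i hi],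
    packP_congr 24 m (f := fun i => getP 24 (packP 12 r N >>> 12) i % 2 ^ 12 / 5)
      (g := fun i => r' (2 * i + 1) / 5) fun i hi => by rw [e1 i hi],
    packP_mul, packP_add, Nat.mul_comm 5, packP_mul,
    hext (fun v => v % 5) (by norm_num)]
  refine Nat.sub_eq_of_eq_add ?_
  rw [hx, packP_add]
  refine packP_congr 24 m fun i _ => ?_
  simp only [pair]
  norm_num
  omega

theorem mulF_eq133 {n a b : ℕ} (hn : 0 < n) (hb133 : n ≤ 133) (ha : MatCanon 12 n 5 a)
    (hb : MatCanon 12 n 5 b) : mulF n a b = mulMat 12 n 5 a b := by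
  let r : ℕ → ℕ := fun k => ∑ l : Fin n, getP 12 a (k / n * n + l) * getP 12 b (l * n + k % n)
  have hdiv : ∀ k < n * n, k / n < n := fun k hk => (Nat.div_lt_iff_lt_mul hn).2 hk
  have hr : ∀ k < n * n, r k ≤ 2128 := fun k hk => by
    calc r k ≤ ∑ _l : Fin n, 16 := Finset.sum_le_sum fun l _ => by
          have h1 := ha.1 _ (idx_lt (⟨k / n, hdiv k hk⟩ : Fin n) l)
          have h2 := hb.1 _ (idx_lt l (⟨k % n, Nat.mod_lt _ hn⟩ : Fin n))
          simp only at h1 h2
          calc _ ≤ 4 * 4 := Nat.mul_le_mul (Nat.le_of_lt_succ h1) (Nat.le_of_lt_succ h2)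
            _ = 16 := rfl
      _ = n * 16 := by simp
      _ ≤ 2128 := by omega
  have hacc : accMat n a b = packP 12 r (n * n) := by
    rw [accMat_eq hn,
      packP_congr _ n (f := rowAcc 12 n a b) (g := fun i => packP 12
        (fun j => ∑ l : Fin n, getP 12 a (i * n + l) * getP 12 b (l * n + j)) n)
        fun i _ => rowAcc_eq 12 n a b i,
      packP_nest]
  show red5 ((n * n + 1) / 2) (accMat n a b) = _
  rw [hacc, red5_eq133 (by omega) (by omega) r hr]
  show _ = packP (12 * n) (fun i => packP 12 (fun j => getP 12 (rowAcc 12 n a b i) j % 5) n) n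
  rw [packP_nest]
  refine packP_congr 12 _ fun k hk => ?_
  have hi := hdiv k hk
  rw [rowAcc_eq, getP_packP 12 _ n (fun j hj => ?_) _ (Nat.mod_lt _ hn)]
  have hij : k / n * n + j < n * n := idx_lt (⟨k / n, hi⟩ : Fin n) ⟨j, hj⟩
  have hbd := hr (k / n * n + j) hij
  have e1 : (k / n * n + j) / n = k / n := (idx_div (⟨k / n, hi⟩ : Fin n) ⟨j, hj⟩).1
  have e2 : (k / n * n + j) % n = j := (idx_div (⟨k / n, hi⟩ : Fin n) ⟨j, hj⟩).2
  simp only [r, e1, e2] at hbd
  omega

end Cfsg.Agent.H16.HN
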