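import Cfsg.Agent.H16.HN.Vec

/-!
Checked levels of an orbit chain in the 133-dimensional representation.
-/

set_option autoImplicit false
set_option maxRecDepth 100000

namespace Cfsg.Agent.H16.HN

open Cfsg.Agent.Compute

local instance : Fact (Nat.Prime 5) := ⟨by norm_num⟩

/-- the packed matrix `m` stands for `g` -/
def Den (g : GL133) (m : ℕ) : Prop := MatOK 12 133 5 m ∧ S.den m = g

/-- a row vector with entries below five, `2 ^ 1596` given as `B` -/
noncomputable def okVecB (n B v : ℕ) : Bool :=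
  Nat.blt v B && allN n (fun k => Nat.blt (getP 12 v k) 5)

/-- `v` is a valid row vector -/
noncomputable def okVec (v : ℕ) : Bool := okVecB 133 (Nat.pow 2 (Nat.mul 12 133)) v

theorem vecCanon_gen {n v : ℕ} (hn : 0 < n) (hv : v < 2 ^ (12 * n))
    (h : ∀ k < n, getP 12 v k < 5) : MatCanon 12 n 5 v := by
  constructor
  · intro k hk
    rcases Nat.lt_or_ge k n with hk' | hk'
    · exact h k hk'
    · rw [getP_eq, Nat.div_eq_of_lt
        (hv.trans_le (Nat.pow_le_pow_right (by norm_num) (by omega))), Nat.zero_mod]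
      norm_num
  · rw [packP_getP]
    exact Nat.mod_eq_of_lt (hv.trans_le (Nat.pow_le_pow_right (by norm_num)
      (Nat.mul_le_mul_left 12 (Nat.le_mul_of_pos_right n hn))))

theorem okVecB_gen {n v : ℕ} (hn : 0 < n) (h : okVecB n (Nat.pow 2 (Nat.mul 12 n)) v = true) :
    v < 2 ^ (12 * n) ∧ MatCanon 12 n 5 v := by
  simp only [okVecB, Bool.and_eq_true, allN_iff] at h
  have hv : v < 2 ^ (12 * n) := Nat.le_of_ble_eq_true h.1
  exact ⟨hv, vecCanon_gen hn hv fun k hk => Nat.le_of_ble_eq_true (h.2 k hk)⟩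

theorem okVec_spec {v : ℕ} (h : okVec v = true) : v < 2 ^ (12 * 133) ∧ MatCanon 12 133 5 v :=
  okVecB_gen (by norm_num) h

/-- matrix of a packed value -/
noncomputable def toM (v : ℕ) : Matrix (Fin 133) (Fin 133) (ZMod 5) := toMat 12 133 5 v

theorem vecM_ok_gen {n m v b : ℕ} (hn : 0 < n) (hn133 : n ≤ 133) (hm : n ≤ 2 * m) (hm' : 2 * m ≤ n + 1)
    (hv : v < 2 ^ (12 * n)) (ha : MatCanon 12 n 5 v) (hb : MatCanon 12 n 5 b) :
    Cfsg.Agent.H27.LyRep.red5 m (rowAcc 12 n v b 0) < 2 ^ (12 * n) ∧
      MatCanon 12 n 5 (Cfsg.Agent.H27.LyRep.red5 m (rowAcc 12 n v b 0)) := by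
  let r : ℕ → ℕ := fun j => ∑ l : Fin n, getP 12 v l * getP 12 b (l * n + j)
  have hr : ∀ j < n, r j ≤ 2128 := fun j hj => by
    calc r j ≤ ∑ _l : Fin n, 16 := Finset.sum_le_sum fun l _ => by
          have h1 := ha.1 (l : ℕ) (lt_of_lt_of_le l.isLt (Nat.le_mul_of_pos_right n hn))
          have h2 := hb.1 _ (idx_lt l (⟨j, hj⟩ : Fin n))
          simp only at h2
          calc _ ≤ 4 * 4 := Nat.mul_le_mul (Nat.le_of_lt_succ h1) (Nat.le_of_lt_succ h2)
            _ = 16 := rfl
      _ = n * 16 := by simp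
      _ ≤ 2128 := by omega
  have h0 : rowAcc 12 n v b 0 = packP 12 r n := by
    rw [rowAcc_eq]; simp only [Nat.zero_mul, Nat.zero_add, r]
  rw [h0, red5_eq133 hm hm' r hr]
  have h5 : ∀ j < n, r j % 5 < 2 ^ 12 := fun j _ => (Nat.mod_lt _ (by norm_num)).trans (by norm_num)
  refine ⟨packP_lt _ _ _ h5, vecCanon_gen hn (packP_lt _ _ _ h5) fun k hk => ?_⟩
  rw [getP_packP 12 _ n h5 k hk]
  exact Nat.mod_lt _ (by norm_num)

theorem toMat_mul_gen {w n q v m : ℕ} (hq : q ≤ 2 ^ w) (hq1 : 1 < q) (hnq : n * (q - 1) ^ 2 < 2 ^ w)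
    (hv : MatCanon w n q v) (hm : MatOK w n q m) :
    toMat w n q (mulMat w n q v m) = toMat w n q v *
      (((matSound w n q hq hq1 hnq).den m : GL (Fin n) (ZMod q)) : Matrix (Fin n) (Fin n) (ZMod q)) := by
  rw [(matCanon_mul hq (by omega) hnq hv.1 hm.1.1).2, show (matSound w n q hq hq1 hnq).den m =
    matDen w n q m from rfl, matDen_coe hm]

theorem vecM_den {g : GL133} {m v : ℕ} (hg : Den g m) (hv : okVec v = true) :
    toM (vecM v m) = toM v * (g : Matrix (Fin 133) (Fin 133) (ZMod 5)) := by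
  obtain ⟨hlt, hc⟩ := okVec_spec hv
  rw [toM, vecM_eq hlt hc hg.1.1, ← hg.2]
  exact toMat_mul_gen _ _ _ hc hg.1

theorem vecM_ok {g : GL133} {m v : ℕ} (hg : Den g m) (hv : v < 2 ^ (12 * 133))
    (hc : MatCanon 12 133 5 v) :
    vecM v m < 2 ^ (12 * 133) ∧ MatCanon 12 133 5 (vecM v m) :=
  vecM_ok_gen (by norm_num) le_rfl (by norm_num) (by norm_num) hv hc hg.1.1

theorem vecM_toM {g : GL133} {m v : ℕ} (hg : Den g m) (hv : v < 2 ^ (12 * 133))
    (hc : MatCanon 12 133 5 v) :
    toM (vecM v m) = toM v * (g : Matrix (Fin 133) (Fin 133) (ZMod 5)) := by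
  rw [toM, vecM_eq hv hc hg.1.1, ← hg.2]
  exact toMat_mul_gen _ _ _ hc hg.1

/-- a vector times a word in the table `T` -/
noncomputable def actW (T : List ℕ) (w : List ℕ) (v : ℕ) : ℕ :=
  List.rec (motive := fun _ => ℕ → ℕ) (fun u => u)
    (fun l _ ih u => Cfsg.Agent.H45.force (vecM u (T.getD l 0)) ih) w v

/-- a word in a list of group elements -/
def elW {G : Type*} [Group G] (ts : List G) : List ℕ → G
  | [] => 1
  | l :: w => ts.getD l 1 * elW ts w

/-- all letters of the word are below `n` -/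
noncomputable def okW (n : ℕ) (w : List ℕ) : Bool := w.all (fun l => Nat.blt l n)

theorem toM_inj {a b : ℕ} (ha : okVec a = true) (hb : okVec b = true) (h : toM a = toM b) : a = b :=
  matCanon_ext (okVec_spec ha).2 (okVec_spec hb).2 h

/-- the checks of one level: `O` an orbit of the first vector under `ms`, `tbl` its table, `par` its
parent pointers, and the matrices after the first `k` fix the first vector -/
noncomputable def levelB (T : List ℕ) (ws : List (List ℕ)) (k : ℕ) (O : List ℕ) (tbl : List (List ℕ))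
    (par : List (ℕ × ℕ)) : Bool :=
  Nat.blt 0 O.length &&
  (ws.all (okW T.length) &&
  (O.all okVec &&
  (allN O.length (fun i => allN i (fun j => !(Nat.beq (O.getD j 0) (O.getD i 0)))) &&
  (allN O.length (fun i => allN ws.length (fun g =>
      Nat.blt ((tbl.getD i []).getD g 0) O.length &&
        Nat.beq (actW T (ws.getD g []) (O.getD i 0)) (O.getD ((tbl.getD i []).getD g 0) 0))) &&
  (allN O.length (fun i => Nat.beq i 0 ||
      (Nat.blt (par.getD i (0, 0)).2 i && (Nat.blt (par.getD i (0, 0)).1 ws.length &&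
        Nat.beq ((tbl.getD (par.getD i (0, 0)).2 []).getD (par.getD i (0, 0)).1 0) i))) &&
  allN (Nat.sub ws.length k) (fun g => Nat.beq (actW T (ws.getD (Nat.add k g) []) (O.getD 0 0)) (O.getD 0 0)))))))

theorem fix_smul {n q : ℕ} [NeZero q] (g : GL (Fin n) (ZMod q)) (A : Matrix (Fin n) (Fin n) (ZMod q))
    (h : A * (g : Matrix (Fin n) (Fin n) (ZMod q)) = A) : g • toR A = toR A := by
  show toR (A * ((g⁻¹ : GL (Fin n) (ZMod q)) : Matrix (Fin n) (Fin n) (ZMod q))) = toR A
  apply congrArg toR
  conv_lhs => rw [← h]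
  rw [mul_assoc, ← Units.val_mul, mul_inv_cancel, Units.val_one, mul_one]

theorem getD_den {ts : List GL133} {T : List ℕ} (hf : List.Forall₂ Den ts T) {l : ℕ}
    (hl : l < T.length) : Den (ts.getD l 1) (T.getD l 0) := by
  induction hf generalizing l with
  | nil => simp at hl
  | cons hab _ ih =>
    cases l with
    | zero => exact hab
    | succ l => exact ih (by simpa using hl)

theorem actW_spec {ts : List GL133} {T : List ℕ} (hf : List.Forall₂ Den ts T) :
    ∀ (w : List ℕ) (v : ℕ), v < 2 ^ (12 * 133) → MatCanon 12 133 5 v → okW T.length w = true →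
      toM (actW T w v) = toM v * ((elW ts w : GL133) : Matrix (Fin 133) (Fin 133) (ZMod 5)) := by
  intro w
  induction w with
  | nil => intro v _ _ _; rw [elW, Units.val_one, mul_one]; rfl
  | cons l w ih =>
    intro v hv hc hw
    simp only [okW, List.all_cons, Bool.and_eq_true] at hw
    have hd := getD_den hf (Nat.le_of_ble_eq_true hw.1)
    obtain ⟨h1, h2⟩ := vecM_ok hd hv hc
    have e : actW T (l :: w) v = actW T w (vecM v (T.getD l 0)) := by
      show Cfsg.Agent.H45.force _ _ = _
      rw [Cfsg.Agent.H45.force_eq]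
      rfl
    rw [e, ih _ h1 h2 hw.2, vecM_toM hd hv hc, elW, Units.val_mul, mul_assoc]

theorem forall₂_getElem {α β : Type*} {R : α → β → Prop} :
    ∀ {L : List α} {M : List β}, List.Forall₂ R L M → ∀ i (hi : i < L.length) (hi' : i < M.length),
      R L[i] M[i] := by
  intro L M h
  induction h with
  | nil => intro i hi; simp at hi
  | cons hab _ ih =>
    intro i hi hi'
    cases i with
    | zero => exact hab
    | succ i => exact ih i (by simpa using hi) (by simpa using hi')

theorem level (ts : List GL133) (T : List ℕ) (hf : List.Forall₂ Den ts T) (ws : List (List ℕ))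
    (k : ℕ) (O : List ℕ) (tbl : List (List ℕ)) (par : List (ℕ × ℕ))
    (h : levelB T ws k O tbl par = true) :
    O.length * Nat.card (Subgroup.closure {g | g ∈ (ws.drop k).map (elW ts)}) ∣
      Nat.card (Subgroup.closure {g | g ∈ ws.map (elW ts)}) := by
  rw [List.map_drop]
  generalize hgs : ws.map (elW ts) = gs
  simp only [levelB, Bool.and_eq_true, allN_iff, List.all_eq_true, Bool.or_eq_true,
    Bool.not_eq_true', Nat.beq_eq] at h
  obtain ⟨hpos, hws, hok, hnd, hcl, hpar, hfix⟩ := h
  have hlen : gs.length = ws.length := by rw [← hgs, List.length_map]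
  have hpos' : 0 < O.length := Nat.le_of_ble_eq_true hpos
  have hmem : ∀ i, i < O.length → O.getD i 0 ∈ O := fun i hi => by
    rw [List.getD_eq_getElem O 0 hi]; exact List.getElem_mem hi
  have hact : ∀ g (hg : g < gs.length) (v : ℕ), okVec v = true →
      toM (actW T (ws.getD g []) v) = toM v * ((gs[g] : GL133) : Matrix (Fin 133) (Fin 133) (ZMod 5)) := by
    intro g hg v hv
    have hg' : g < ws.length := hlen ▸ hg
    rw [List.getD_eq_getElem ws [] hg',
      actW_spec hf _ v (okVec_spec hv).1 (okVec_spec hv).2 (hws _ (List.getElem_mem hg'))]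
    subst hgs
    rw [List.getElem_map]
  have hstep : ∀ i, i < O.length → ∀ g (hg : g < gs.length),
      (tbl.getD i []).getD g 0 < O.length ∧
      toM (O.getD i 0) * ((gs[g] : GL133) : Matrix (Fin 133) (Fin 133) (ZMod 5)) =
        toM (O.getD ((tbl.getD i []).getD g 0) 0) := fun i hi g hg => by
    obtain ⟨h1, h2⟩ := hcl i hi g (hlen ▸ hg)
    exact ⟨Nat.le_of_ble_eq_true h1, by rw [← hact g hg _ (hok _ (hmem i hi)), h2]⟩
  let S' : Subgroup GL133 := Subgroup.closure {g | g ∈ gs.drop k}
  have hfixS : ∀ s ∈ S', s • toR (toM (O.getD 0 0)) = toR (toM (O.getD 0 0)) := by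
    have hle : S' ≤ MulAction.stabilizer GL133 (toR (toM (O.getD 0 0))) := by
      rw [Subgroup.closure_le]
      intro g hg
      obtain ⟨i, hi, rfl⟩ := List.getElem_of_mem hg
      rw [List.length_drop] at hi
      rw [List.getElem_drop]
      have hki : k + i < gs.length := by omega
      have h2 := hact (k + i) hki _ (hok _ (hmem 0 hpos'))
      have h3 : actW T (ws.getD (k + i) []) (O.getD 0 0) = O.getD 0 0 :=
        hfix i (show i < ws.length - k by omega)
      rw [h3] at h2
      rw [SetLike.mem_coe, MulAction.mem_stabilizer_iff]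
      exact fix_smul _ _ h2.symm
    exact fun s hs => MulAction.mem_stabilizer_iff.mp (hle hs)
  have horb := card_orbit_list (n := 133) (q := 5) (Subgroup.closure {g | g ∈ gs}) gs rfl (O.map toM)
    (toM (O.getD 0 0)) (List.mem_map_of_mem (hmem 0 hpos')) ?_ ?_ ?_
  · rw [List.length_map] at horb
    rw [← horb]
    exact orbit_ncard_mul_dvd _ S' (Subgroup.closure_mono fun g hg => List.mem_of_mem_drop hg) _ hfixS
  · rw [List.nodup_iff_injective_get]
    intro a b hab
    simp only [List.get_eq_getElem, List.getElem_map] at hab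
    have ha : (a : ℕ) < O.length := by simpa using a.isLt
    have hb : (b : ℕ) < O.length := by simpa using b.isLt
    have he := toM_inj (hok _ (List.getElem_mem ha)) (hok _ (List.getElem_mem hb)) hab
    apply Fin.ext
    rcases Nat.lt_trichotomy (a : ℕ) b with hlt | heq | hgt
    · exfalso
      have := hnd b hb a hlt
      rw [List.getD_eq_getElem O 0 ha, List.getD_eq_getElem O 0 hb, he] at this
      simp at this
    · exact heq
    · exfalso
      have := hnd a ha b hgt
      rw [List.getD_eq_getElem O 0 ha, List.getD_eq_getElem O 0 hb, he] at this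
      simp at this
  · intro A hA g hg
    obtain ⟨v, hv, rfl⟩ := List.mem_map.mp hA
    obtain ⟨i, hi, rfl⟩ := List.getElem_of_mem hv
    obtain ⟨j, hj, rfl⟩ := List.getElem_of_mem hg
    obtain ⟨h1, h2⟩ := hstep i hi j hj
    rw [← List.getD_eq_getElem O 0 hi, h2]
    exact List.mem_map_of_mem (hmem _ h1)
  · intro i hi
    have hiO : i < O.length := by simpa using hi
    rcases hpar i hiO with h0 | ⟨h1, h2, h3⟩
    · subst h0
      left
      rw [List.getElem_map, List.getD_eq_getElem O 0 hiO]
    · right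
      have h1' : (par.getD i (0, 0)).2 < i := Nat.le_of_ble_eq_true h1
      have h2' : (par.getD i (0, 0)).1 < gs.length := hlen ▸ Nat.le_of_ble_eq_true h2
      obtain ⟨-, h4⟩ := hstep _ (h1'.trans hiO) _ h2'
      refine ⟨(par.getD i (0, 0)).2, by rw [List.length_map]; exact h1'.trans hiO, h1', _,
        List.getElem_mem h2', ?_⟩
      rw [h3, List.getD_eq_getElem O 0 hiO, List.getD_eq_getElem O 0 (h1'.trans hiO)] at h4
      rw [List.getElem_map, List.getElem_map]
      exact h4.symm

end Cfsg.Agent.H16.HN
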