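import Cfsg.Agent.H16.HN.Two
import Cfsg.Agent.H16.HN.Three
import Cfsg.Agent.H16.HN.Five
import Cfsg.Agent.H16.HN.Seven
import Cfsg.Agent.H16.HN.Eleven
import Cfsg.Agent.H16.HN.Nineteen

/-!
The lower bound for the order of presented HN.
-/

set_option autoImplicit false

namespace Cfsg.Agent.H16.HN

theorem card_range_dvd : 273030912000000 ∣ Nat.card rho.range := by
  have h : 2 ^ 14 * (3 ^ 6 * (5 ^ 6 * (7 * (11 * 19)))) ∣ Nat.card rho.range :=
    Nat.Coprime.mul_dvd_of_dvd_of_dvd (by norm_num) (by simpa using Two.dvd)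
      (Nat.Coprime.mul_dvd_of_dvd_of_dvd (by norm_num) (by simpa using Three.dvd)
        (Nat.Coprime.mul_dvd_of_dvd_of_dvd (by norm_num) (by simpa using Five.dvd)
          (Nat.Coprime.mul_dvd_of_dvd_of_dvd (by norm_num) (by simpa using Seven.dvd)
            (Nat.Coprime.mul_dvd_of_dvd_of_dvd (by norm_num) (by simpa using Eleven.dvd)
              (by simpa using Nineteen.dvd)))))
  simpa using h

/-- the order of presented HN is a multiple of the order of HN -/
theorem card_dvd : 273030912000000 ∣ Nat.card Cfsg.Spor.HN :=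
  card_range_dvd.trans (Subgroup.card_range_dvd rho)

end Cfsg.Agent.H16.HN
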