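import Cfsg.Agent.H16.HN.Rep

/-!
Orbit certificates for row vectors: an orbit of length `d` under a subgroup with a subgroup of order `m`
fixing its first vector gives a divisor `d * m` of the order.
-/

set_option autoImplicit false

namespace Cfsg.Agent.H16.HN

open Cfsg.Agent.Compute

theorem orbit_ncard_mul_dvd {G : Type*} [Group G] [Finite G] {α : Type*} [MulAction G α]
    (K S : Subgroup G) (hSK : S ≤ K) (v : α) (hS : ∀ s ∈ S, s • v = v) :
    Nat.card (MulAction.orbit K v) * Nat.card S ∣ Nat.card K := by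
  have h : (S.subgroupOf K) ≤ MulAction.stabilizer K v := fun s hs =>
    MulAction.mem_stabilizer_iff.mpr (hS s hs)
  have h1 := Subgroup.card_dvd_of_le h
  rw [Nat.card_congr (Subgroup.subgroupOfEquivOfLe hSK).toEquiv] at h1
  rw [← (MulAction.stabilizer K v).index_mul_card, MulAction.index_stabilizer,
    ← Nat.card_coe_set_eq]
  exact Nat.mul_dvd_mul_left _ h1

/-- matrices as a space for right multiplication by inverses -/
def RMat (n q : ℕ) : Type := Matrix (Fin n) (Fin n) (ZMod q)

/-- read a matrix in `RMat` -/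
def toR {n q : ℕ} (A : Matrix (Fin n) (Fin n) (ZMod q)) : RMat n q := A

/-- read back -/
def ofR {n q : ℕ} (A : RMat n q) : Matrix (Fin n) (Fin n) (ZMod q) := A

noncomputable instance rightAct {n q : ℕ} : MulAction (GL (Fin n) (ZMod q)) (RMat n q) where
  smul g A := toR (ofR A * ((g⁻¹ : GL (Fin n) (ZMod q)) : Matrix (Fin n) (Fin n) (ZMod q)))
  one_smul A := by
    show ofR A * ((1⁻¹ : GL (Fin n) (ZMod q)) : Matrix (Fin n) (Fin n) (ZMod q)) = A
    rw [inv_one, Units.val_one, mul_one]; rfl
  mul_smul g h A := by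
    show ofR A * (((g * h)⁻¹ : GL (Fin n) (ZMod q)) : Matrix (Fin n) (Fin n) (ZMod q)) =
      ofR A * ((h⁻¹ : GL (Fin n) (ZMod q)) : Matrix (Fin n) (Fin n) (ZMod q)) *
        ((g⁻¹ : GL (Fin n) (ZMod q)) : Matrix (Fin n) (Fin n) (ZMod q))
    rw [mul_inv_rev, Units.val_mul, mul_assoc]

/-- An orbit listed with parent pointers: every later entry is an earlier one times a generator, the
list is closed under the generators and has no repetition. -/
theorem card_orbit_list {n q : ℕ} [NeZero q] (K : Subgroup (GL (Fin n) (ZMod q)))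
    (gens : List (GL (Fin n) (ZMod q))) (hK : K = Subgroup.closure {g | g ∈ gens})
    (L : List (Matrix (Fin n) (Fin n) (ZMod q))) (v : Matrix (Fin n) (Fin n) (ZMod q))
    (hv : v ∈ L) (hnd : L.Nodup)
    (hcl : ∀ A ∈ L, ∀ g ∈ gens, A * (g : Matrix (Fin n) (Fin n) (ZMod q)) ∈ L)
    (hre : ∀ i (hi : i < L.length), L[i] = v ∨ ∃ j, ∃ hj : j < L.length, j < i ∧ ∃ g ∈ gens,
      L[i] = L[j] * (g : Matrix (Fin n) (Fin n) (ZMod q))) :
    Nat.card (MulAction.orbit K (toR v)) = L.length := by
  have hsmul : ∀ (g : GL (Fin n) (ZMod q)) (A : Matrix (Fin n) (Fin n) (ZMod q)),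
      ofR (g • toR A) = A * ((g⁻¹ : GL (Fin n) (ZMod q)) : Matrix (Fin n) (Fin n) (ZMod q)) :=
    fun _ _ => rfl
  have hclK : ∀ k ∈ K, ∀ A ∈ L, A * (k : Matrix (Fin n) (Fin n) (ZMod q)) ∈ L := by
    intro k hk
    rw [hK, ← Subgroup.mem_toSubmonoid, Subgroup.closure_toSubmonoid_of_finite] at hk
    induction hk using Submonoid.closure_induction with
    | mem g hg => exact fun A hA => hcl A hA g hg
    | one => exact fun A hA => by rw [Units.val_one, mul_one]; exact hA
    | mul a b _ _ ha hb =>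
      intro A hA
      rw [Units.val_mul, ← mul_assoc]
      exact hb _ (ha A hA)
  have hreach : ∀ i (hi : i < L.length),
      ∃ k ∈ K, L[i] = v * (k : Matrix (Fin n) (Fin n) (ZMod q)) := by
    intro i
    induction i using Nat.strong_induction_on with
    | _ i ih =>
      intro hi
      rcases hre i hi with h | ⟨j, hj, hji, g, hg, h⟩
      · exact ⟨1, one_mem K, by rw [h, Units.val_one, mul_one]⟩
      · obtain ⟨k, hk, hkj⟩ := ih j hji hj
        exact ⟨k * g, mul_mem hk (hK ▸ Subgroup.subset_closure hg), by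
          rw [h, hkj, Units.val_mul, mul_assoc]⟩
  have hset : MulAction.orbit K (toR v) = toR '' {A | A ∈ L} := by
    ext A
    constructor
    · rintro ⟨⟨k, hk⟩, rfl⟩
      refine ⟨_, ?_, rfl⟩
      exact hclK k⁻¹ (inv_mem hk) v hv
    · rintro ⟨B, hA, rfl⟩
      obtain ⟨i, hi, rfl⟩ := List.getElem_of_mem hA
      obtain ⟨k, hk, hki⟩ := hreach i hi
      refine ⟨⟨k⁻¹, inv_mem hk⟩, ?_⟩
      show k⁻¹ • toR v = toR L[i]
      have h := hsmul k⁻¹ v
      rw [inv_inv] at h
      exact h.trans hki.symm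
  rw [hset, Nat.card_coe_set_eq, Set.ncard_image_of_injective _ (show Function.Injective (toR (n := n) (q := q)) from fun _ _ h => h),
    show {A | A ∈ L} = ((L.toFinset : Finset _) : Set _) by ext; simp, Set.ncard_coe_finset,
    List.toFinset_card_of_nodup hnd]

end Cfsg.Agent.H16.HN
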