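import Cfsg.Agent.H16.HN.Check
import Cfsg.Agent.H45.CosetSound
import Cfsg.Prelude.Def_Spor_HN

/-!
The 133-dimensional representation of the presented group HN over the field with five elements.
-/

set_option autoImplicit false
set_option maxRecDepth 100000
set_option linter.style.haveILetI false

namespace Cfsg.Agent.H16.HN

open Cfsg.Agent.Compute
open Cfsg.Agent.H45 (evalW evalW_cons)
open Cfsg.Spor

local instance : Fact (Nat.Prime 5) := ⟨by norm_num⟩

/-- invertible 133 by 133 matrices over the field with five elements -/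
abbrev GL133 : Type := GL (Fin 133) (ZMod 5)

/-- number of a generator -/
def gidx : HN.Gen → Fin 4
  | HN.Gen.x => 0
  | HN.Gen.y => 1
  | HN.Gen.z => 2
  | HN.Gen.t => 3

/-- letters of the free group on four generators -/
def fL (l : ℕ) : FreeGroup (Fin 4) :=
  if h : l < 8 then
    cond (Nat.beq (l % 2) 0) (FreeGroup.of ⟨l / 2, by omega⟩) (FreeGroup.of ⟨l / 2, by omega⟩)⁻¹
  else 1

/-- the generators as elements of the free group on four letters -/
def gF (x : HN.Gen) : FreeGroup (Fin 4) := FreeGroup.of (gidx x)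

theorem extra_match : ((List.zip HN.extra relW).all fun p =>
    decide (FreeGroup.lift gF p.1 = evalW fL p.2)) = true := by decide +kernel

theorem extra_len : HN.extra.length = relW.length := by decide +kernel

/-- soundness of the packed operations -/
noncomputable def S : Sound (G := GL133) (matOps 12 133 5) :=
  matSound 12 133 5 (by norm_num) (by norm_num) (by norm_num)

theorem mulM_eq {a b : ℕ} (ha : MatCanon 12 133 5 a) (hb : MatCanon 12 133 5 b) :
    mulM a b = mulMat 12 133 5 a b :=
  mulF_eq133 (by norm_num) le_rfl ha hb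

theorem okPair_sound {a b : ℕ} (h : okPair a b = true) :
    MatOK 12 133 5 a ∧ MatOK 12 133 5 b ∧ S.den b = (S.den a)⁻¹ := by
  simp only [okPair, Bool.and_eq_true, Nat.beq_eq] at h
  obtain ⟨⟨⟨ha, hb⟩, hab⟩, hba⟩ := h
  have hc : ∀ {x : ℕ}, validMat 12 133 5 x = true → MatCanon 12 133 5 x := fun hx => by
    simp only [validMat, Bool.and_eq_true, allN_iff, Nat.ble_eq, Nat.beq_eq,
      Nat.add_one_le_iff] at hx
    exact hx
  apply S.okInv_sound
  show invMat 12 133 5 a b = true
  simp only [invMat, ha, hb, Bool.and_eq_true, Nat.beq_eq, true_and]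
  exact ⟨(mulM_eq (hc ha) (hc hb)).symm.trans hab, (mulM_eq (hc hb) (hc ha)).symm.trans hba⟩

/-- the four matrices -/
noncomputable def f4 (i : Fin 4) : GL133 := S.den (mat (2 * i.val))

theorem mat_ge {l : ℕ} (h : 8 ≤ l) : mat l = one133 :=
  List.getD_eq_default _ _ (by simpa [mats] using h)

theorem mat_ok (l : ℕ) : MatOK 12 133 5 (mat l) ∧
    S.den (mat l) = FreeGroup.lift f4 (fL l) := by
  rcases Nat.lt_or_ge l 8 with h | h
  · interval_cases l
    · exact ⟨(okPair_sound pair0).1, (FreeGroup.lift_apply_of (f := f4) (x := ⟨0, by omega⟩)).symm⟩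
    · refine ⟨(okPair_sound pair0).2.1, (okPair_sound pair0).2.2.trans ?_⟩
      exact ((map_inv (FreeGroup.lift f4) _).trans (congrArg (·⁻¹) (FreeGroup.lift_apply_of (f := f4) (x := ⟨0, by omega⟩)))).symm
    · exact ⟨(okPair_sound pair1).1, (FreeGroup.lift_apply_of (f := f4) (x := ⟨1, by omega⟩)).symm⟩
    · refine ⟨(okPair_sound pair1).2.1, (okPair_sound pair1).2.2.trans ?_⟩
      exact ((map_inv (FreeGroup.lift f4) _).trans (congrArg (·⁻¹) (FreeGroup.lift_apply_of (f := f4) (x := ⟨1, by omega⟩)))).symm
    · exact ⟨(okPair_sound pair2).1, (FreeGroup.lift_apply_of (f := f4) (x := ⟨2, by omega⟩)).symm⟩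
    · refine ⟨(okPair_sound pair2).2.1, (okPair_sound pair2).2.2.trans ?_⟩
      exact ((map_inv (FreeGroup.lift f4) _).trans (congrArg (·⁻¹) (FreeGroup.lift_apply_of (f := f4) (x := ⟨2, by omega⟩)))).symm
    · exact ⟨(okPair_sound pair3).1, (FreeGroup.lift_apply_of (f := f4) (x := ⟨3, by omega⟩)).symm⟩
    · refine ⟨(okPair_sound pair3).2.1, (okPair_sound pair3).2.2.trans ?_⟩
      exact ((map_inv (FreeGroup.lift f4) _).trans (congrArg (·⁻¹) (FreeGroup.lift_apply_of (f := f4) (x := ⟨3, by omega⟩)))).symm
  · rw [mat_ge h, fL, dif_neg (by omega), map_one]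
    exact ⟨matOK_one (by norm_num) (by norm_num), S.den_one⟩

theorem mul_ok_gen {w n q a b : ℕ} (hq : q ≤ 2 ^ w) (hq1 : 1 < q) (hnq : n * (q - 1) ^ 2 < 2 ^ w)
    (ha : MatOK w n q a) (hb : MatOK w n q b) :
    MatOK w n q (mulMat w n q a b) ∧ (matSound w n q hq hq1 hnq).den (mulMat w n q a b) =
      (matSound w n q hq hq1 hnq).den a * (matSound w n q hq hq1 hnq).den b :=
  ⟨(matSound w n q hq hq1 hnq).ok_mul ha hb, (matSound w n q hq hq1 hnq).den_mul ha hb⟩

theorem mul_ok {a b : ℕ} (ha : MatOK 12 133 5 a) (hb : MatOK 12 133 5 b) :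
    MatOK 12 133 5 (mulM a b) ∧ S.den (mulM a b) = S.den a * S.den b := by
  rw [mulM_eq ha.1 hb.1]
  exact mul_ok_gen _ _ _ ha hb

theorem evM_ok : ∀ w : List ℕ, MatOK 12 133 5 (evM w) ∧
    S.den (evM w) = FreeGroup.lift f4 (evalW fL w) := by
  intro w
  induction w with
  | nil => exact ⟨matOK_one (by norm_num) (by norm_num), S.den_one.trans (map_one _).symm⟩
  | cons l t ih =>
    rw [evalW_cons, map_mul, ← (mat_ok l).2, ← ih.2]
    exact mul_ok (mat_ok l).1 ih.1

theorem relW_one (j : ℕ) (hj : j < 14) :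
    FreeGroup.lift f4 (evalW fL (relW.getD j [])) = 1 := by
  have key : ∀ k m : ℕ, chkRels k m = true → k ≤ j → j < k + m →
      Nat.beq (evM (relW.getD j [])) one133 = true := by
    intro k m h h1 h2
    have := (allN_iff _ _).1 h (j - k) (by omega)
    rwa [show Nat.add k (j - k) = j from Nat.add_sub_cancel' h1] at this
  have hv : Nat.beq (evM (relW.getD j [])) one133 = true := by
    by_cases c0 : j < 5
    · exact key _ _ rels0 (by omega) (by omega)
    by_cases c1 : j < 9
    · exact key _ _ rels1 (by omega) (by omega)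
    by_cases c2 : j < 10
    · exact key _ _ rels2 (by omega) (by omega)
    exact key _ _ rels3 (by omega) (by omega)
  rw [← (evM_ok _).2, Nat.eq_of_beq_eq_true hv]
  exact S.den_one

/-- images of the generators -/
noncomputable def fG (x : HN.Gen) : GL133 := FreeGroup.lift f4 (gF x)

theorem fG_rels : ∀ r ∈ coxRelators HN.edges ∪ {r | r ∈ HN.extra}, FreeGroup.lift fG r = 1 := by
  rintro r (hr | hr)
  · simp [coxRelators, coxNodes, HN.edges] at hr
  · obtain ⟨i, hi, rfl⟩ := List.getElem_of_mem hr
    have hi' : i < relW.length := extra_len ▸ hi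
    have e : FreeGroup.lift fG = (FreeGroup.lift f4).comp (FreeGroup.lift gF) := by
      ext x; simp [fG]
    have hm := List.all_eq_true.mp extra_match (HN.extra[i], relW[i])
      (List.mem_iff_getElem.mpr ⟨i, by rw [List.length_zip]; omega, List.getElem_zip⟩)
    rw [decide_eq_true_eq] at hm
    dsimp only at hm
    rw [e, MonoidHom.comp_apply]
    exact (congrArg _ (hm.trans (congrArg (evalW fL) (List.getD_eq_getElem relW [] hi').symm))).trans
      (relW_one i (lt_of_lt_of_le hi' (le_of_eq (by decide))))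

/-- the representation -/
noncomputable def rho : Cfsg.Spor.HN →* GL133 := PresentedGroup.toGroup fG_rels

theorem rho_of (x : HN.Gen) : rho (PresentedGroup.of x) = fG x := PresentedGroup.toGroup.of fG_rels

/-- the four generators by number -/
noncomputable def genHN : Fin 4 → Cfsg.Spor.HN :=
  ![PresentedGroup.of HN.Gen.x, PresentedGroup.of HN.Gen.y, PresentedGroup.of HN.Gen.z,
    PresentedGroup.of HN.Gen.t]

/-- value of a word in presented HN -/
noncomputable def wordHN (w : List ℕ) : Cfsg.Spor.HN := FreeGroup.lift genHN (evalW fL w)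

/-- the packed value of a word is the image of the word -/
theorem rho_word (w : List ℕ) : S.den (evM w) = rho (wordHN w) := by
  have e : rho.comp (FreeGroup.lift genHN) = FreeGroup.lift f4 := by
    ext i
    fin_cases i <;> simp [genHN, rho_of, fG, gF, gidx]
  rw [(evM_ok w).2, wordHN, ← e, MonoidHom.comp_apply]

theorem mat0_ne : Nat.beq (mat 0) one133 = false := by decide +kernel

/-- `x` is not trivial in the representation -/
theorem rho_of_x_ne_one : rho (PresentedGroup.of HN.Gen.x) ≠ 1 := by
  intro h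
  rw [rho_of] at h
  have h2 : S.den (mat 0) = 1 := by
    rw [(mat_ok 0).2, ← h, fG, gF]
    rfl
  have h3 := (S.eqv_iff (mat_ok 0).1 S.ok_one).2 (h2.trans S.den_one.symm)
  have : Nat.beq (mat 0) one133 = true := h3
  rw [mat0_ne] at this
  exact Bool.noConfusion this

end Cfsg.Agent.H16.HN
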