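import Cfsg.Agent.H16.HN.Level

/-!
Straight-line programs over the eight letters: every value is the image of an element of presented HN.
-/

set_option autoImplicit false
set_option maxRecDepth 100000

namespace Cfsg.Agent.H16.HN

open Cfsg.Agent.Compute

local instance : Fact (Nat.Prime 5) := ⟨by norm_num⟩

/-- the packed value is the image of an element of presented HN -/
def Img (r : ℕ) : Prop := ∃ g : Cfsg.Spor.HN, Den (rho g) r

theorem img_letter (l : ℕ) : Img (mat l) := by
  refine ⟨wordHN [l], (mat_ok l).1, ?_⟩
  rw [(mat_ok l).2, ← rho_word, (evM_ok [l]).2, Cfsg.Agent.H45.evalW_cons]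
  simp [Cfsg.Agent.H45.evalW]

theorem Img.mul {a b : ℕ} (ha : Img a) (hb : Img b) : Img (mulM a b) := by
  obtain ⟨g, hga, hg⟩ := ha
  obtain ⟨h, hhb, hh⟩ := hb
  exact ⟨g * h, (mul_ok hga hhb).1, by rw [(mul_ok hga hhb).2, hg, hh, map_mul]⟩

/-- run a program: each step appends the product of two earlier values -/
noncomputable def evS (prog : List (ℕ × ℕ)) (env : List ℕ) : List ℕ :=
  List.rec (motive := fun _ => List ℕ → List ℕ) (fun e => e)
    (fun s _ ih e => Cfsg.Agent.H45.force (mulM (e.getD s.1 one133) (e.getD s.2 one133))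
      (fun r => ih (e ++ [r]))) prog env

theorem img_one : Img one133 :=
  ⟨1, matOK_one (by norm_num) (by norm_num), S.den_one.trans (map_one rho).symm⟩

theorem evS_img : ∀ (prog : List (ℕ × ℕ)) (env : List ℕ), (∀ r ∈ env, Img r) →
    ∀ r ∈ evS prog env, Img r := by
  intro prog
  induction prog with
  | nil => intro env h r hr; exact h r hr
  | cons s prog ih =>
    intro env h r hr
    have e : evS (s :: prog) env =
        evS prog (env ++ [mulM (env.getD s.1 one133) (env.getD s.2 one133)]) := by
      show Cfsg.Agent.H45.force (mulM (env.getD s.1 one133) (env.getD s.2 one133))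
        (fun r => evS prog (env ++ [r])) = _
      rw [Cfsg.Agent.H45.force_eq]
    rw [e] at hr
    refine ih _ (fun u hu => ?_) r hr
    rcases List.mem_append.mp hu with hu | hu
    · exact h u hu
    · rw [List.mem_singleton] at hu
      subst hu
      have hget : ∀ i, Img (env.getD i one133) := fun i => by
        rcases Nat.lt_or_ge i env.length with hi | hi
        · rw [List.getD_eq_getElem env one133 hi]; exact h _ (List.getElem_mem hi)
        · rw [List.getD_eq_default env one133 hi]; exact img_one
      exact (hget _).mul (hget _)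

/-- the values `idx` of the program on the letters are the literals `lits` -/
noncomputable def slpB (prog : List (ℕ × ℕ)) (idx : List ℕ) (lits : List ℕ) : Bool :=
  Cfsg.Agent.Compute.allN lits.length (fun i =>
    Nat.beq ((evS prog mats).getD (idx.getD i 0) one133) (lits.getD i 0))

theorem slp_img {prog : List (ℕ × ℕ)} {idx lits : List ℕ} (h : slpB prog idx lits = true) :
    ∀ r ∈ lits, Img r := by
  simp only [slpB, allN_iff, Nat.beq_eq] at h
  intro r hr
  obtain ⟨i, hi, rfl⟩ := List.getElem_of_mem hr
  have h1 := h i hi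
  rw [List.getD_eq_getElem lits 0 hi] at h1
  rw [← h1]
  have hmats : ∀ r ∈ mats, Img r := fun r hr => by
    obtain ⟨j, hj, rfl⟩ := List.getElem_of_mem hr
    have := img_letter j
    rwa [mat, List.getD_eq_getElem mats one133 hj] at this
  rcases Nat.lt_or_ge (idx.getD i 0) (evS prog mats).length with hl | hl
  · rw [List.getD_eq_getElem _ one133 hl]
    exact evS_img prog mats hmats _ (List.getElem_mem hl)
  · rw [List.getD_eq_default _ one133 hl]; exact img_one

theorem forall₂_den : ∀ (lits : List ℕ), (∀ r ∈ lits, Img r) →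
    ∃ ts : List GL133, List.Forall₂ Den ts lits ∧ ∀ g ∈ ts, g ∈ rho.range := by
  intro lits
  induction lits with
  | nil => intro _; exact ⟨[], List.Forall₂.nil, by simp⟩
  | cons r lits ih =>
    intro h
    obtain ⟨g, hg⟩ := h r List.mem_cons_self
    obtain ⟨ts, hts, hmem⟩ := ih fun u hu => h u (List.mem_cons_of_mem _ hu)
    exact ⟨rho g :: ts, List.Forall₂.cons hg hts,
      fun u hu => (List.mem_cons.mp hu).elim (fun e => e ▸ ⟨g, rfl⟩) (hmem u)⟩

theorem elW_mem {K : Subgroup GL133} {ts : List GL133} (h : ∀ g ∈ ts, g ∈ K) :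
    ∀ w, elW ts w ∈ K := by
  intro w
  induction w with
  | nil => exact one_mem K
  | cons l w ih =>
    refine mul_mem ?_ ih
    rcases Nat.lt_or_ge l ts.length with hl | hl
    · rw [List.getD_eq_getElem ts 1 hl]; exact h _ (List.getElem_mem hl)
    · rw [List.getD_eq_default ts 1 hl]; exact one_mem K

end Cfsg.Agent.H16.HN
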