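import Cfsg.Agent.H16.HN.Orbit

/-!
A cheap product of a packed row vector (a matrix whose rows after the first vanish) with a packed matrix.
-/

set_option autoImplicit false
set_option maxRecDepth 100000

namespace Cfsg.Agent.H16.HN

open Cfsg.Agent.Compute

/-- row vector times matrix -/
noncomputable def vecM (v b : ℕ) : ℕ :=
  Cfsg.Agent.H27.LyRep.red5 67 (rowAcc 12 133 v b 0)

theorem vecM_eq_gen {n m v b : ℕ} (hn : 0 < n) (hn133 : n ≤ 133) (hm : n ≤ 2 * m) (hm' : 2 * m ≤ n + 1)
    (hv : v < 2 ^ (12 * n)) (ha : MatCanon 12 n 5 v) (hb : MatCanon 12 n 5 b) :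
    Cfsg.Agent.H27.LyRep.red5 m (rowAcc 12 n v b 0) = mulMat 12 n 5 v b := by
  have hz : ∀ k, n ≤ k → getP 12 v k = 0 := fun k hk => by
    rw [getP_eq, Nat.div_eq_of_lt (hv.trans_le (Nat.pow_le_pow_right (by norm_num) (by omega))),
      Nat.zero_mod]
  let r : ℕ → ℕ := fun j => ∑ l : Fin n, getP 12 v l * getP 12 b (l * n + j)
  have hr : ∀ j < n, r j ≤ 2128 := fun j hj => by
    calc r j ≤ ∑ _l : Fin n, 16 := Finset.sum_le_sum fun l _ => by
          have h1 := ha.1 (l : ℕ) (lt_of_lt_of_le l.isLt (Nat.le_mul_of_pos_right n hn))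
          have h2 := hb.1 _ (idx_lt l (⟨j, hj⟩ : Fin n))
          simp only at h2
          calc _ ≤ 4 * 4 := Nat.mul_le_mul (Nat.le_of_lt_succ h1) (Nat.le_of_lt_succ h2)
            _ = 16 := rfl
      _ = n * 16 := by simp
      _ ≤ 2128 := by omega
  have h0 : rowAcc 12 n v b 0 = packP 12 r n := by
    rw [rowAcc_eq]; simp only [Nat.zero_mul, Nat.zero_add, r]
  rw [h0, red5_eq133 hm hm' r hr]
  show _ = packP (12 * n) (fun i => packP 12 (fun j => getP 12 (rowAcc 12 n v b i) j % 5) n) n
  obtain ⟨k, hk⟩ : ∃ k, n = k + 1 := ⟨n - 1, by omega⟩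
  have hrow : packP (12 * n) (fun i => packP 12 (fun j => getP 12 (rowAcc 12 n v b i) j % 5) n) n =
      packP (12 * n) (fun i => if i = 0 then packP 12 (fun j => r j % 5) n else 0) n := by
    refine packP_congr _ n fun i _ => ?_
    by_cases hi : i = 0
    · subst hi
      rw [if_pos rfl, h0]
      refine packP_congr 12 n fun j hj => ?_
      rw [getP_packP 12 r n (fun l hl => by have := hr l hl; norm_num; omega) j hj]
    · rw [if_neg hi]
      have hzero : rowAcc 12 n v b i = packP 12 (fun _ => 0) n := by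
        rw [rowAcc_eq]
        refine packP_congr 12 n fun j _ => Finset.sum_eq_zero fun l _ => ?_
        rw [hz _ (le_add_of_le_left (Nat.le_mul_of_pos_left n (Nat.pos_of_ne_zero hi))), Nat.zero_mul]
      have hp : ∀ m', packP 12 (fun _ => 0) m' = 0 := fun m' => by
        induction m' with
        | zero => simp [packP]
        | succ a ih => rw [packP_succ, ih]; simp
      rw [hzero, hp]
      have hg : ∀ j, getP 12 0 j = 0 := fun j => by rw [getP_eq, Nat.zero_div, Nat.zero_mod]
      simp only [hg, Nat.zero_mod]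
      exact hp n
  rw [hrow]
  clear hrow h0 hr ha hb hv hz hm hm' hn133
  have key : ∀ (c : ℕ) (a : ℕ), packP (12 * n) (fun i => if i = 0 then c else 0) (a + 1) = c := by
    intro c a
    induction a with
    | zero => simp [packP_succ, packP]
    | succ a ih => rw [packP_succ, ih]; simp
  conv_rhs => arg 3; rw [hk]
  rw [key]

theorem vecM_eq {v b : ℕ} (hv : v < 2 ^ (12 * 133)) (ha : MatCanon 12 133 5 v)
    (hb : MatCanon 12 133 5 b) : vecM v b = mulMat 12 133 5 v b :=
  vecM_eq_gen (by norm_num) le_rfl (by norm_num) (by norm_num) hv ha hb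

end Cfsg.Agent.H16.HN
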